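import Groth.Agent.S2790
import Groth.Agent.MorLib.SmoothLocus
import Groth.Agent.FibDim.RingLoc
import Mathlib

/-!
Smoothness at a prime from flatness and the number of generators of the differentials.
-/

set_option autoImplicit false
set_option backward.isDefEq.respectTransparency false
set_option linter.style.haveILetI false
set_option synthInstance.maxHeartbeats 400000
universe u

open AlgebraicGeometry CategoryTheory
open scoped TensorProduct

namespace Groth.Agent.SmoothRank

/-- Generators of the differentials at a prime given by differentials of elements of the ring. -/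
theorem exists_generators (A B : Type u) [CommRing A] [CommRing B] [Algebra A B] [Algebra.FiniteType A B]
    (q : Ideal B) [q.IsPrime] (n : ℕ) (v : Fin n → Ω[Localization.AtPrime q⁄A])
    (hv : Submodule.span (Localization.AtPrime q) (Set.range v) = ⊤) :
    ∃ g : Fin n → B, Submodule.span (Localization.AtPrime q)
      (Set.range fun i => KaehlerDifferential.D A (Localization.AtPrime q) (algebraMap B _ (g i))) = ⊤ := by
  classical
  let T := Localization.AtPrime q
  let κ := IsLocalRing.ResidueField T
  let M := Ω[T⁄A]
  haveI : Module.Finite T M := ⟨⟨Finset.univ.image v, by rw [Finset.coe_image, Finset.coe_univ, Set.image_univ, hv]⟩⟩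
  have hspanB : Submodule.span T (Set.range fun b : B => KaehlerDifferential.D A T (algebraMap B T b)) = ⊤ := by
    refine top_le_iff.1 ((KaehlerDifferential.span_range_derivation A T).ge.trans (Submodule.span_le.2 ?_))
    rintro _ ⟨z, rfl⟩
    obtain ⟨⟨b, s⟩, hz⟩ := IsLocalization.surj q.primeCompl z
    let N := Submodule.span T (Set.range fun b : B => KaehlerDifferential.D A T (algebraMap B T b))
    have h1 : z • KaehlerDifferential.D A T (algebraMap B T s) + algebraMap B T s • KaehlerDifferential.D A T z ∈ N := by
      rw [← Derivation.leibniz, hz]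
      exact Submodule.subset_span ⟨b, rfl⟩
    have h2 : algebraMap B T s • KaehlerDifferential.D A T z ∈ N :=
      (N.add_mem_iff_right (N.smul_mem z (Submodule.subset_span ⟨s, rfl⟩))).1 h1
    have hu : IsUnit (algebraMap B T (s : B)) := IsLocalization.map_units T s
    exact (Submodule.smul_mem_iff_of_isUnit N hu).1 h2
  let π : M →ₗ[T] κ ⊗[T] M := TensorProduct.mk T κ M 1
  have hπ : ∀ S : Set M, Submodule.span T S = ⊤ → Submodule.span κ (π '' S) = ⊤ := fun S hS => by
    rw [← top_le_iff]
    intro x _
    obtain ⟨m, rfl⟩ : ∃ m, π m = x := TensorProduct.mk_surjective T M κ IsLocalRing.residue_surjective x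
    have : m ∈ Submodule.span T S := hS ▸ Submodule.mem_top
    have := Submodule.apply_mem_span_image_of_mem_span π this
    exact Submodule.span_le_restrictScalars T κ _ this
  obtain ⟨s, hs, hspan, hli⟩ := exists_linearIndependent κ
    (Set.range fun b : B => π (KaehlerDifferential.D A T (algebraMap B T b)))
  have htop : Submodule.span κ s = ⊤ := by
    rw [hspan, ← hπ _ hspanB, ← Set.range_comp]; rfl
  haveI : Finite s := hli.finite
  haveI := Fintype.ofFinite s
  have hcard : Fintype.card s ≤ n := by
    have h1 := hπ _ hv
    have h2 : Module.finrank κ (κ ⊗[T] M) ≤ n := by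
      rw [← finrank_top, ← h1, ← Set.range_comp]
      exact (finrank_range_le_card _).trans (by simp)
    exact hli.fintype_card_le_finrank.trans h2
  choose g hg using fun y : s => hs y.2
  let e : s → Fin n := fun y => Fin.castLE hcard ((Fintype.equivFin s) y)
  have he : Function.Injective e := fun a b h => (Fintype.equivFin s).injective (Fin.castLE_injective hcard h)
  refine ⟨Function.extend e g 0, ?_⟩
  rw [← IsLocalRing.map_tensorProduct_mk_eq_top, Submodule.map_span, ← Set.range_comp]
  rw [← Submodule.restrictScalars_eq_top_iff T κ] at htop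
  rw [← top_le_iff, ← htop, Submodule.restrictScalars_span T κ IsLocalRing.residue_surjective]
  refine Submodule.span_mono fun y hy => ⟨e ⟨y, hy⟩, ?_⟩
  show π (KaehlerDifferential.D A T (algebraMap B T (Function.extend e g 0 (e ⟨y, hy⟩)))) = y
  rw [he.extend_apply]
  exact hg ⟨y, hy⟩

/-- Generation of the differentials passes to the fibre. -/
theorem span_fibre {A B K BK T T' : Type u} [CommRing A] [CommRing B] [CommRing K] [CommRing BK] [CommRing T] [CommRing T']
    [Algebra A B] [Algebra B T] [Algebra A T] [IsScalarTower A B T]
    [Algebra A K] [Algebra K BK] [Algebra BK T'] [Algebra K T'] [IsScalarTower K BK T'] [Algebra A T']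
    [IsScalarTower A K T'] [Algebra T T'] [IsScalarTower A T T']
    (M : Submonoid BK) [IsLocalization M T'] (inc : B →+* BK)
    (hgen : ∀ x : BK, ∃ (m : ℕ) (c : Fin m → K) (b : Fin m → B), x = ∑ i, c i • inc (b i))
    (hinc : ∀ b : B, algebraMap T T' (algebraMap B T b) = algebraMap BK T' (inc b))
    {n : ℕ} (g : Fin n → B)
    (hg : Submodule.span T (Set.range fun i => KaehlerDifferential.D A T (algebraMap B T (g i))) = ⊤) :
    Submodule.span T' (Set.range fun i => KaehlerDifferential.D K T' (algebraMap BK T' (inc (g i)))) = ⊤ := by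
  have hD : ∀ b : B, KaehlerDifferential.map A K T T' (KaehlerDifferential.D A T (algebraMap B T b)) =
      KaehlerDifferential.D K T' (algebraMap BK T' (inc b)) := fun b => by
    rw [KaehlerDifferential.map_D, hinc]
  let N := Submodule.span T' (Set.range fun i => KaehlerDifferential.D K T' (algebraMap BK T' (inc (g i))))
  have hN : ∀ b : B, KaehlerDifferential.D K T' (algebraMap BK T' (inc b)) ∈ N := fun b => by
    rw [← hD]
    have h1 := Submodule.apply_mem_span_image_of_mem_span (KaehlerDifferential.map A K T T')
      (show KaehlerDifferential.D A T (algebraMap B T b) ∈ Submodule.span T _ from hg ▸ Submodule.mem_top)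
    rw [← Set.range_comp] at h1
    refine Submodule.span_le_restrictScalars T T' _ ?_
    simpa only [Function.comp_def, hD] using h1
  refine top_le_iff.1 ((KaehlerDifferential.span_range_derivation K T').ge.trans (Submodule.span_le.2 ?_))
  rintro _ ⟨z, rfl⟩
  obtain ⟨⟨b, s⟩, hz⟩ := IsLocalization.surj M z
  have hall : ∀ x : BK, KaehlerDifferential.D K T' (algebraMap BK T' x) ∈ N := fun x => by
    obtain ⟨m, c, d, rfl⟩ := hgen x
    rw [map_sum, map_sum]
    refine N.sum_mem fun i _ => ?_
    rw [Algebra.smul_def, map_mul, ← IsScalarTower.algebraMap_apply, ← Algebra.smul_def, Derivation.map_smul,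
      ← IsScalarTower.algebraMap_smul T' (c i)]
    exact N.smul_mem _ (hN (d i))
  have h1 : z • KaehlerDifferential.D K T' (algebraMap BK T' s) + algebraMap BK T' s • KaehlerDifferential.D K T' z ∈ N := by
    rw [← Derivation.leibniz, hz]
    exact hall b
  have h2 : algebraMap BK T' s • KaehlerDifferential.D K T' z ∈ N :=
    (N.add_mem_iff_right (N.smul_mem z (hall s))).1 h1
  exact (Submodule.smul_mem_iff_of_isUnit N (IsLocalization.map_units T' s)).1 h2

/-- The criterion. -/
theorem isSmoothAt_of_flat_of_rank (A B : Type u) [CommRing A] [CommRing B] [Algebra A B]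
    [Algebra.FinitePresentation A B] (q : PrimeSpectrum B) (n : ℕ)
    (hflat : ((Spec.map (CommRingCat.ofHom (algebraMap A B))).stalkMap q).hom.Flat)
    (hdim : FlatMor.fibreDimAt (Spec.map (CommRingCat.ofHom (algebraMap A B))) q = (n : WithBot ℕ∞))
    (v : Fin n → Ω[Localization.AtPrime q.asIdeal⁄A])
    (hv : Submodule.span (Localization.AtPrime q.asIdeal) (Set.range v) = ⊤) :
    Algebra.IsSmoothAt A q.asIdeal := by
  obtain ⟨g, hg⟩ := exists_generators A B q.asIdeal n v hv
  let p := q.asIdeal.under A
  let K := p.ResidueField
  obtain ⟨Q, hQ⟩ := FibDim.exists_fiber_point (A := A) q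
  have hloc := (FibDim.localDim_fiber_eq_fibreDimAt q Q hQ).trans hdim
  let BK := K ⊗[A] B
  let inc : B →+* BK := (Algebra.TensorProduct.includeRight (R := A) (A := K) (B := B)).toRingHom
  letI : Algebra (MvPolynomial (Fin n) K) BK :=
    (MvPolynomial.aeval (fun i => inc (g i)) : MvPolynomial (Fin n) K →ₐ[K] BK).toRingHom.toAlgebra
  haveI : IsScalarTower K (MvPolynomial (Fin n) K) BK := IsScalarTower.of_algebraMap_eq fun c =>
    ((MvPolynomial.aeval (fun i => inc (g i)) : MvPolynomial (Fin n) K →ₐ[K] BK).commutes c).symm
  let T := Localization.AtPrime q.asIdeal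
  let T' := Localization.AtPrime Q.asIdeal
  letI : Algebra T T' := (Localization.localRingHom q.asIdeal Q.asIdeal inc hQ.symm).toAlgebra
  haveI : IsScalarTower A T T' := IsScalarTower.of_algebraMap_eq fun a => by
    show _ = Localization.localRingHom q.asIdeal Q.asIdeal inc hQ.symm (algebraMap A T a)
    rw [IsScalarTower.algebraMap_apply A B T, Localization.localRingHom_to_map,
      IsScalarTower.algebraMap_apply A BK T']
    exact congrArg _ ((Algebra.TensorProduct.includeRight (R := A) (A := K) (B := B)).commutes a).symm
  have hspan := span_fibre (A := A) (K := K) (T := T) (T' := T') Q.asIdeal.primeCompl inc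
    (fun x => by
      induction x using TensorProduct.induction_on with
      | zero => exact ⟨0, fun _ => 0, fun _ => 0, by simp⟩
      | tmul c y => exact ⟨1, fun _ => c, fun _ => y, by
          rw [Fin.sum_univ_one]
          show c ⊗ₜ[A] y = c • ((1 : K) ⊗ₜ[A] y)
          rw [TensorProduct.smul_tmul', smul_eq_mul, mul_one]⟩
      | add x y hx hy =>
        obtain ⟨m, c, d, rfl⟩ := hx
        obtain ⟨m', c', d', rfl⟩ := hy
        exact ⟨m + m', Fin.append c c', Fin.append d d', by rw [Fin.sum_univ_add]; simp⟩)
    (fun b => Localization.localRingHom_to_map _ _ _ hQ.symm b) g hg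
  have het : Algebra.IsEtaleAt (MvPolynomial (Fin n) K) Q.asIdeal := by
    refine (S2790.result K BK n Q.asIdeal hloc).2 (Eq.trans ?_ hspan)
    refine congrArg _ (congrArg Set.range (funext fun i => ?_))
    rw [show algebraMap (MvPolynomial (Fin n) K) BK (MvPolynomial.X i) = inc (g i) from
      MvPolynomial.aeval_X _ i]
  have hsm : Algebra.IsSmoothAt K Q.asIdeal := by
    haveI : Algebra.FormallyEtale (MvPolynomial (Fin n) K) T' := het
    exact Algebra.FormallySmooth.comp K (MvPolynomial (Fin n) K) T'
  exact MorLib.SmoothAlg.isSmoothAt_of_fiber_field (A := A) (B := B) p q.asIdeal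
    (MorLib.SmoothLoc.flat_Spec_stalk q hflat) K Q.asIdeal hQ hsm

end Groth.Agent.SmoothRank
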