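import Groth.Agent.SmoothRank.Ring
import Groth.Agent.CotTLib.SmoothField
import Groth.Agent.S2082
import Groth.Agent.AvramovLib.Ps
import Mathlib

/-!
Flatness over a regular base where the fibre is smooth and the dimensions add up.
-/

set_option autoImplicit false
set_option backward.isDefEq.respectTransparency false
set_option linter.style.haveILetI false
set_option synthInstance.maxHeartbeats 400000
set_option maxHeartbeats 800000
universe u

open AlgebraicGeometry CategoryTheory
open scoped TensorProduct

namespace Groth.Agent.SmoothRank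

/-- The fibre is smooth at the point when the differentials need no more generators than its dimension. -/
theorem exists_isSmoothAt_fibre (A B : Type u) [CommRing A] [CommRing B] [Algebra A B]
    [Algebra.FinitePresentation A B] (q : PrimeSpectrum B) (n : ℕ)
    (hdim : FlatMor.fibreDimAt (Spec.map (CommRingCat.ofHom (algebraMap A B))) q = (n : WithBot ℕ∞))
    (v : Fin n → Ω[Localization.AtPrime q.asIdeal⁄A])
    (hv : Submodule.span (Localization.AtPrime q.asIdeal) (Set.range v) = ⊤) :
    ∃ Q : PrimeSpectrum ((q.asIdeal.under A).Fiber B),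
      Q.asIdeal.comap (Algebra.TensorProduct.includeRight.toRingHom) = q.asIdeal ∧
        Algebra.IsSmoothAt (q.asIdeal.under A).ResidueField Q.asIdeal := by
  obtain ⟨g, hg⟩ := exists_generators A B q.asIdeal n v hv
  let p := q.asIdeal.under A
  let K := p.ResidueField
  obtain ⟨Q, hQ⟩ := FibDim.exists_fiber_point (A := A) q
  have hloc := (FibDim.localDim_fiber_eq_fibreDimAt q Q hQ).trans hdim
  let BK := K ⊗[A] B
  let inc : B →+* BK := (Algebra.TensorProduct.includeRight (R := A) (A := K) (B := B)).toRingHom
  letI : Algebra (MvPolynomial (Fin n) K) BK :=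
    (MvPolynomial.aeval (fun i => inc (g i)) : MvPolynomial (Fin n) K →ₐ[K] BK).toRingHom.toAlgebra
  haveI : IsScalarTower K (MvPolynomial (Fin n) K) BK := IsScalarTower.of_algebraMap_eq fun c =>
    ((MvPolynomial.aeval (fun i => inc (g i)) : MvPolynomial (Fin n) K →ₐ[K] BK).commutes c).symm
  let T := Localization.AtPrime q.asIdeal
  let T' := Localization.AtPrime Q.asIdeal
  letI : Algebra T T' := (Localization.localRingHom q.asIdeal Q.asIdeal inc hQ.symm).toAlgebra
  haveI : IsScalarTower A T T' := IsScalarTower.of_algebraMap_eq fun a => by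
    show _ = Localization.localRingHom q.asIdeal Q.asIdeal inc hQ.symm (algebraMap A T a)
    rw [IsScalarTower.algebraMap_apply A B T, Localization.localRingHom_to_map,
      IsScalarTower.algebraMap_apply A BK T']
    exact congrArg _ ((Algebra.TensorProduct.includeRight (R := A) (A := K) (B := B)).commutes a).symm
  have hspan := span_fibre (A := A) (K := K) (T := T) (T' := T') Q.asIdeal.primeCompl inc
    (fun x => by
      induction x using TensorProduct.induction_on with
      | zero => exact ⟨0, fun _ => 0, fun _ => 0, by simp⟩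
      | tmul c y => exact ⟨1, fun _ => c, fun _ => y, by
          rw [Fin.sum_univ_one]
          show c ⊗ₜ[A] y = c • ((1 : K) ⊗ₜ[A] y)
          rw [TensorProduct.smul_tmul', smul_eq_mul, mul_one]⟩
      | add x y hx hy =>
        obtain ⟨m, c, d, rfl⟩ := hx
        obtain ⟨m', c', d', rfl⟩ := hy
        exact ⟨m + m', Fin.append c c', Fin.append d d', by rw [Fin.sum_univ_add]; simp⟩)
    (fun b => Localization.localRingHom_to_map _ _ _ hQ.symm b) g hg
  have het : Algebra.IsEtaleAt (MvPolynomial (Fin n) K) Q.asIdeal := by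
    refine (S2790.result K BK n Q.asIdeal hloc).2 (Eq.trans ?_ hspan)
    refine congrArg _ (congrArg Set.range (funext fun i => ?_))
    rw [show algebraMap (MvPolynomial (Fin n) K) BK (MvPolynomial.X i) = inc (g i) from
      MvPolynomial.aeval_X _ i]
  have hsm : Algebra.IsSmoothAt K Q.asIdeal := by
    haveI : Algebra.FormallyEtale (MvPolynomial (Fin n) K) T' := het
    exact Algebra.FormallySmooth.comp K (MvPolynomial (Fin n) K) T'
  exact ⟨Q, hQ, hsm⟩

/-- The local ring of the fibre is a quotient of the local ring. -/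
theorem exists_surjective_fibre {A B : Type u} [CommRing A] [CommRing B] [Algebra A B] [Algebra.FinitePresentation A B]
    (p : Ideal A) [p.IsPrime] (q : Ideal B) [q.IsPrime] [q.LiesOver p]
    (Q : Ideal (p.ResidueField ⊗[A] B)) [Q.IsPrime]
    (hQ : Q.comap (Algebra.TensorProduct.includeRight (R := A) (A := p.ResidueField) (B := B)).toRingHom = q) :
    ∃ φ : Localization.AtPrime q →+* Localization.AtPrime Q, Function.Surjective φ ∧
      RingHom.ker φ = p.map (algebraMap A (Localization.AtPrime q)) := by
  let F := p.ResidueField ⊗[A] B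
  let inc : B →+* F := (Algebra.TensorProduct.includeRight (R := A) (A := p.ResidueField) (B := B)).toRingHom
  let T := Localization.AtPrime q
  let T' := Localization.AtPrime Q
  let φ : T →+* T' := Localization.localRingHom q Q inc hQ.symm
  have hinc : ∀ a : A, algebraMap A F a = inc (algebraMap A B a) := fun a =>
    ((Algebra.TensorProduct.includeRight (R := A) (A := p.ResidueField) (B := B)).commutes a).symm
  have hsA : ∀ s, s ∉ p → algebraMap A B s ∈ q.primeCompl := fun s hs h => hs (by
    rwa [q.over_def p, Ideal.under_def, Ideal.mem_comap])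
  have hclear : ∀ v : F, v ∉ Q → ∃ s ∉ p, ∃ c, c ∉ q ∧ algebraMap A F s * v = inc c := fun v hv => by
    obtain ⟨s, hs, c, hc⟩ := MorLib.SmoothAlg.exists_clear p v
    refine ⟨s, hs, c, fun hcq => ?_, hc⟩
    have h1 : inc c ∈ Q := by rw [← hQ] at hcq; exact hcq
    change (1 : p.ResidueField) ⊗ₜ[A] c ∈ Q at h1
    rw [← hc] at h1
    rcases (inferInstance : Q.IsPrime).mem_or_mem h1 with h2 | h2
    · exact hsA s hs (by rw [← hQ]; show inc (algebraMap A B s) ∈ Q; rw [hinc] at h2; exact h2)
    · exact hv h2
  refine ⟨φ, fun z => ?_, le_antisymm (fun z hz => ?_) ?_⟩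
  · obtain ⟨w, v, rfl⟩ := IsLocalization.exists_mk'_eq Q.primeCompl z
    obtain ⟨t, ht, c, hc, hv⟩ := hclear v.1 v.2
    obtain ⟨s, hs, b, hb⟩ := MorLib.SmoothAlg.exists_clear p w
    refine ⟨IsLocalization.mk' T (algebraMap A B t * b) (⟨algebraMap A B s * c, q.primeCompl.mul_mem (hsA s hs) hc⟩ : q.primeCompl), ?_⟩
    rw [Localization.localRingHom_mk']
    refine IsLocalization.mk'_eq_of_eq ?_
    show inc (algebraMap A B s * c) * w = v.1 * inc (algebraMap A B t * b)
    rw [map_mul, map_mul, ← hinc, ← hinc, ← hv, show inc b = algebraMap A F s * w from hb.symm]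
    ring
  · obtain ⟨b, c₀, rfl⟩ := IsLocalization.exists_mk'_eq q.primeCompl z
    rw [RingHom.mem_ker, Localization.localRingHom_mk', IsLocalization.mk'_eq_zero_iff] at hz
    obtain ⟨⟨v, hv⟩, hvb⟩ := hz
    obtain ⟨t, ht, c, hc, hvc⟩ := hclear v hv
    have h0 : inc (c * b) = 0 := by
      rw [map_mul, ← hvc, mul_assoc, show v * inc b = 0 from hvb, mul_zero]
    let J := p.map (algebraMap A T)
    let g : A →+* T ⧸ J := (Ideal.Quotient.mk J).comp (algebraMap A T)
    have hg1 : p ≤ RingHom.ker g := fun a ha => Ideal.Quotient.eq_zero_iff_mem.2 (Ideal.mem_map_of_mem _ ha)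
    have hg2 : p.primeCompl ≤ (IsUnit.submonoid (T ⧸ J)).comap g := fun a ha => by
      show IsUnit (Ideal.Quotient.mk J (algebraMap A T a))
      rw [IsScalarTower.algebraMap_apply A B T]
      exact (IsLocalization.map_units T (⟨_, hsA a ha⟩ : q.primeCompl)).map _
    let gA : p.ResidueField →ₐ[A] T ⧸ J :=
      { Ideal.ResidueField.lift p g hg1 hg2 with
        commutes' := fun a => Ideal.ResidueField.lift_algebraMap p g hg1 hg2 a }
    let ψ : F →ₐ[A] T ⧸ J := Algebra.TensorProduct.lift gA
      ((Ideal.Quotient.mkₐ A J).comp (IsScalarTower.toAlgHom A B T)) fun _ _ => Commute.all _ _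
    have h1 : Ideal.Quotient.mk J (algebraMap B T (c * b)) = 0 := by
      have := congrArg ψ h0
      rw [map_zero, show inc (c * b) = (1 : p.ResidueField) ⊗ₜ[A] (c * b) from rfl, Algebra.TensorProduct.lift_tmul,
        map_one, one_mul] at this
      exact this
    rw [Ideal.Quotient.eq_zero_iff_mem, map_mul, Ideal.unit_mul_mem_iff_mem _
      (IsLocalization.map_units T (⟨c, hc⟩ : q.primeCompl))] at h1
    rw [IsLocalization.mk'_eq_mul_mk'_one]
    exact J.mul_mem_right _ h1
  · refine Ideal.map_le_iff_le_comap.2 fun a ha => ?_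
    show φ (algebraMap A T a) = 0
    rw [IsScalarTower.algebraMap_apply A B T, Localization.localRingHom_to_map, ← hinc,
      Algebra.TensorProduct.algebraMap_apply, Ideal.algebraMap_residueField_eq_zero.2 ha,
      TensorProduct.zero_tmul, map_zero]

/-- Flatness over a regular base from a smooth fibre and the dimension formula. -/
theorem flat_of_regular_base (A B : Type u) [CommRing A] [CommRing B] [Algebra A B] [IsNoetherianRing A]
    [Algebra.FinitePresentation A B] (q : PrimeSpectrum B) (n : ℕ)
    (hreg : IsRegularLocalRing (Localization.AtPrime (q.asIdeal.under A)))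
    (hdimB : ringKrullDim (Localization.AtPrime q.asIdeal) = ringKrullDim (Localization.AtPrime (q.asIdeal.under A)) +
      ringKrullDim (Localization.AtPrime q.asIdeal ⧸ (q.asIdeal.under A).map (algebraMap A (Localization.AtPrime q.asIdeal))))
    (hdim : FlatMor.fibreDimAt (Spec.map (CommRingCat.ofHom (algebraMap A B))) q = (n : WithBot ℕ∞))
    (v : Fin n → Ω[Localization.AtPrime q.asIdeal⁄A])
    (hv : Submodule.span (Localization.AtPrime q.asIdeal) (Set.range v) = ⊤) :
    letI := Localization.AtPrime.algebraOfLiesOver (q.asIdeal.under A) q.asIdeal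
    Module.Flat (Localization.AtPrime (q.asIdeal.under A)) (Localization.AtPrime q.asIdeal) := by
  let p := q.asIdeal.under A
  let R := Localization.AtPrime p
  let T := Localization.AtPrime q.asIdeal
  letI : Algebra R T := Localization.AtPrime.algebraOfLiesOver p q.asIdeal
  obtain ⟨Q, hQ, hsm⟩ := exists_isSmoothAt_fibre A B q n hdim v hv
  obtain ⟨φ, hφ, hker⟩ := exists_surjective_fibre p q.asIdeal Q.asIdeal hQ
  haveI : IsNoetherianRing B := Algebra.FiniteType.isNoetherianRing A B
  haveI : IsNoetherianRing T := IsLocalization.isNoetherianRing q.asIdeal.primeCompl T inferInstance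
  haveI := hreg
  haveI : IsRegularLocalRing (Localization.AtPrime Q.asIdeal) :=
    haveI := hsm
    CotTLib.isRegularLocalRing_of_isSmoothAt (k := p.ResidueField) Q.asIdeal
  let I := (IsLocalRing.maximalIdeal R).map (algebraMap R T)
  have hI : I = p.map (algebraMap A T) := by
    rw [IsScalarTower.algebraMap_eq A R T, ← Ideal.map_map, Localization.AtPrime.map_eq_maximalIdeal]
  let e : (T ⧸ I) ≃+* Localization.AtPrime Q.asIdeal :=
    (Ideal.quotEquivOfEq (hI.trans hker.symm)).trans (RingHom.quotientKerEquivOfSurjective hφ)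
  haveI : IsRegularLocalRing (T ⧸ I) := IsRegularLocalRing.of_ringEquiv (R := Localization.AtPrime Q.asIdeal) e.symm
  have hd : ringKrullDim T = ringKrullDim R + ringKrullDim (T ⧸ I) := by
    rw [hI]; exact hdimB
  haveI : IsRegularLocalRing T := by
    have hIle : I ≤ IsLocalRing.maximalIdeal T := ((IsLocalRing.local_hom_TFAE (algebraMap R T)).out 0 2).1
      (Localization.isLocalHom_localRingHom _ _ _ _)
    refine IsRegularLocalRing.of_spanFinrank_maximalIdeal_le T ?_
    rw [hd, ← IsRegularLocalRing.spanFinrank_maximalIdeal (R := R),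
      ← IsRegularLocalRing.spanFinrank_maximalIdeal (R := T ⧸ I), ← Nat.cast_add, Nat.cast_le]
    obtain ⟨s, hs, hsR⟩ := Submodule.FG.exists_span_set_encard_eq_spanFinrank
      (IsNoetherian.noetherian (IsLocalRing.maximalIdeal R))
    obtain ⟨t, ht, htT⟩ := Submodule.FG.exists_span_set_encard_eq_spanFinrank
      (IsNoetherian.noetherian (IsLocalRing.maximalIdeal (T ⧸ I)))
    let lift := Function.surjInv (Ideal.Quotient.mk_surjective (I := I))
    have hmax : Ideal.span (algebraMap R T '' s ∪ lift '' t) = IsLocalRing.maximalIdeal T := by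
      rw [Ideal.span_union, ← Ideal.map_span, show Ideal.span s = IsLocalRing.maximalIdeal R from hsR]
      have h2 : (Ideal.span (lift '' t)).map (Ideal.Quotient.mk I) = IsLocalRing.maximalIdeal (T ⧸ I) := by
        rw [Ideal.map_span, ← Set.image_comp, (Function.rightInverse_surjInv _).comp_eq_id, Set.image_id]
        exact htT
      have h3 : (IsLocalRing.maximalIdeal T).map (Ideal.Quotient.mk I) = IsLocalRing.maximalIdeal (T ⧸ I) :=
        by
          haveI := IsLocalHom.of_surjective (Ideal.Quotient.mk I) Ideal.Quotient.mk_surjective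
          ext y
          obtain ⟨y, rfl⟩ := Ideal.Quotient.mk_surjective y
          simp [sup_eq_left.mpr hIle]
      have h4 := congrArg (Ideal.comap (Ideal.Quotient.mk I)) (h2.trans h3.symm)
      rw [Ideal.comap_map_of_surjective _ Ideal.Quotient.mk_surjective, Ideal.comap_map_of_surjective _
        Ideal.Quotient.mk_surjective, ← RingHom.ker_eq_comap_bot, Ideal.mk_ker, sup_eq_left.2 hIle] at h4
      rw [sup_comm]
      exact h4
    have hfs : s.Finite := Set.finite_of_encard_eq_coe hs
    have hft : t.Finite := Set.finite_of_encard_eq_coe ht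
    rw [← hmax]
    refine (Submodule.spanFinrank_span_le_ncard_of_finite ((hfs.image _).union (hft.image _))).trans ?_
    refine (Set.ncard_union_le _ _).trans (add_le_add ((Set.ncard_image_le hfs).trans ?_) ((Set.ncard_image_le hft).trans ?_))
    · rw [← ENat.coe_le_coe, hfs.cast_ncard_eq, hs]
    · rw [← ENat.coe_le_coe, hft.cast_ncard_eq, ht]
  haveI : IsLocalHom (algebraMap R T) := Localization.isLocalHom_localRingHom _ _ _ _
  haveI := AvramovLib.isCM_of_regular T
  exact S2082.result hd

end Groth.Agent.SmoothRank
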